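import Cfsg.Agent.Lib.Schur.SpSix.Model

/-!
Seven transvections and their permutations of the 64 forms.
-/

set_option autoImplicit false
set_option maxRecDepth 100000

namespace CfsgLib.Schur.Sporadic.SpSix

/-- The centres of the transvections. -/
def baseV : List V := [(Sum.elim ![0, 1, 1] ![1, 0, 0]), (Sum.elim ![1, 0, 1] ![1, 0, 1]), (Sum.elim ![1, 1, 0] ![1, 1, 1]), (Sum.elim ![1, 1, 1] ![0, 0, 1]), (Sum.elim ![0, 1, 1] ![0, 0, 1]), (Sum.elim ![1, 1, 1] ![0, 0, 0]), (Sum.elim ![1, 0, 1] ![0, 0, 0])]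

/-- The permutations. -/
def baseK : List ℕ := [0xffe30d28be78187d74cf2001bee71d69ba685979648e24117deb2daab6589a75544d28213cef3debb248db71440c2c31, 0x4be43ced7e55ddbd597b27300ae02cac7a459cb9493a23207f3771d9ad18e96e144ff47d3e336198a908a86a040ef06d, 0xfe18bcee59b8a36d6bb32c6fc2eb73d2aa779f9ea48fdfa001e74311a6475c92944cd3903d148c2d558860615b70205f, 0xfc207c1fae44dca2743f2c4cbd246c5eaa549da6647e285c8de7606e6958ad65684eeb50cce3702f6d48ec61780fef40, 0x2caf7cefa34c0c2d74cf21446dab6caea75c4d29648e25547dea68bee6585d68609e64503cee78ffe2481c6c70df6040, 0xfc617c0fae40dce3742f2c48bd656c4eaa509de7646e28587e695c8da6605eeb54ad24683f6d4ccca2701fef44ec2078, 0x5fe57ced2e507f6774cdac581ee16cac2a403e63648ca848dded5c6f2670fd6f544fa4789ce94c2e2260bc6b440ea068]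

/-- The forms of minus type. -/
def minusList : List ℕ := [9, 11, 13, 15, 18, 19, 22, 23, 25, 26, 29, 30, 36, 37, 38, 39, 41, 43, 44, 46, 50, 51, 52, 53, 57, 58, 60, 63]

/-- The transpositions of the first one on these. -/
def spinSwaps : List (Fin 28 × Fin 28) := [(1, 25), (2, 26), (6, 15), (7, 14), (9, 17), (10, 18)]

end CfsgLib.Schur.Sporadic.SpSix
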