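import Cfsg.Agent.Lib.Schur.SpSix.Data3
import Cfsg.Agent.Lib.Schur.TailsSLP
import Cfsg.Agent.Lib.Schur.SpSix.Base

/-!
Kernel checks of the data for the 3-part of the multiplier of the symplectic group.
-/

set_option autoImplicit false
set_option maxRecDepth 100000
set_option maxHeartbeats 0

namespace CfsgLib.Schur.Sporadic.SpSix

open CfsgLib.Sporadic.OutCert

theorem slp3_ok : Tails.slpK 6 64 7 slpTab3 slpW3 = true ∧
    slpTab3.take 7 = baseK := by decide +kernel

theorem pick3_ok : Tails.pickK 6 64 slpTab3 ids3 kk3 = true ∧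
    Tails.pickK 6 64 slpTab3 gids3 gk3 = true := by decide +kernel

theorem cert3_eqs : cert3.eqsOK = true := by decide +kernel

theorem cert3_comb : cert3.combOK = true := by decide +kernel

theorem cert3_shape : cert3.shapeOK = true ∧ cert3.p = 3 ∧ ¬ 3 ∣ cert3.m ∧ cert3.b = 1 ∧
    ¬ 3 ^ (cert3.r + 1) ∣ 1451520 := by decide +kernel

theorem rels3_ok : Tails.relK 6 64 kk3 cert3 = true ∧ Tails.fusK 6 64 kk3 gk3 cert3 = true := by
  decide +kernel

theorem all3_ok : Tails.wordsOK 6 64 kk3 pts3 words3 0 cert3.r = true ∧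
    words3.length = 3 ^ cert3.r := by decide +kernel

theorem inner3_ok : Tails.wordsOK 6 64 kk3 pts3in words3in cert3.a cert3.r = true ∧
    words3in.length = 3 ^ (cert3.r - cert3.a) := by decide +kernel

theorem ord_ok : Tails.pickK 6 64 slpTab3 ordIds ordK = true ∧
    ((List.range 2).all fun i => testK 6 64 [ordK.getD i 0] ([5, 7].getD i 0) &&
      !(ordK.getD i 0 == oneK 6 64) && ordK.getD i 0 == pkF 6 (lk 6 (ordK.getD i 0)) 64 0) = true ∧
    ordK.length = 2 := by decide +kernel

end CfsgLib.Schur.Sporadic.SpSix
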