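import Cfsg.Agent.Lib.Schur.SpSix.Check2
import Cfsg.Agent.Lib.Schur.SpSix.Check3
import Cfsg.Agent.Lib.Schur.SpinLift
import Cfsg.Agent.Lib.Classical.PSpThree.Congr

/-!
The multiplier of the symplectic group of dimension six over two elements has order two.
-/

set_option autoImplicit false
set_option maxRecDepth 100000
set_option maxHeartbeats 0

namespace CfsgLib.Schur.Sporadic.SpSix

open CfsgLib.Sporadic.OutCert Matrix

theorem trv_table : (List.range 7).all (fun j => (List.range 64).all fun i =>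
    (num fun x => qn (Fin.ofNat 64 i) ((trv (baseV.getD j 0)).1 *ᵥ x)).val == lk 6 (baseK.getD j 0) i) = true ∧
    baseK.length = 7 := by decide +kernel

theorem rep_trv (j : ℕ) (hj : j < 7) : Rep 6 64 (baseK.getD j 0) (psi (trv (baseV.getD j 0))) := by
  intro i
  rw [psi_apply, trv_inv]
  have h := beq_iff_eq.1 (List.all_eq_true.1 (List.all_eq_true.1 trv_table.1 j (List.mem_range.2 hj)) i
    (List.mem_range.2 i.2))
  rw [← h, Fin.ofNat_val_eq_self]

theorem hw : 64 ≤ 2 ^ 6 := le_rfl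

attribute [local irreducible] lk pkF allF compK slpTab2 slpTab3 kk2 kk3 gk2 gk3 ordK baseK

theorem psi_injective : Function.Injective psi := by
  haveI := isSimple_G
  rw [← MonoidHom.ker_eq_bot_iff]
  refine psi.normal_ker.eq_bot_or_eq_top.resolve_right fun htop => ?_
  have h : psi (trv (baseV.getD 0 0)) = 1 := MonoidHom.mem_ker.1 (htop ▸ Subgroup.mem_top _)
  have hr := rep_trv 0 (by norm_num)
  rw [h] at hr
  exact absurd (fun i : Fin 64 => hr i) (by decide +kernel)

theorem base_mem {tab : List ℕ} (h : tab.take 7 = baseK) :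
    ∀ i < 7, ∃ q : G, Rep 6 64 (tab.getD i (oneK 6 64)) (psi q) := by
  intro i hi
  refine ⟨trv (baseV.getD i 0), ?_⟩
  have e : tab.getD i (oneK 6 64) = (tab.take 7).getD i (oneK 6 64) := by
    simp [List.getD_eq_getElem?_getD, List.getElem?_take, hi]
  rw [e, h, List.getD_eq_getElem _ _ (trv_table.2.symm ▸ hi),
    ← List.getD_eq_getElem _ 0 (trv_table.2.symm ▸ hi)]
  exact rep_trv i hi

theorem card_ker_le (Γ : Type) [Group Γ] [Finite Γ] (σ : Γ →* G) (hσ : Cfsg.IsStemExtension σ) :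
    Nat.card σ.ker ≤ 2 := by
  refine Tails.card_ker_le σ hσ two_ne_zero fun p hp hd => ?_
  rw [card_G] at hd
  have hp' : p = 2 ∨ p = 3 ∨ p = 5 ∨ p = 7 := by
    have h1 : p ∣ 2 ^ 9 * 3 ^ 4 * 5 * 7 := hd
    have q : ∀ r : ℕ, r.Prime → p ∣ r → p = r := fun r hr h => (Nat.prime_dvd_prime_iff_eq hp hr).1 h
    simp only [Nat.Prime.dvd_mul hp] at h1
    rcases h1 with ((h1 | h1) | h1) | h1
    · exact Or.inl (q 2 Nat.prime_two (hp.dvd_of_dvd_pow h1))
    · exact Or.inr (Or.inl (q 3 Nat.prime_three (hp.dvd_of_dvd_pow h1)))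
    · exact Or.inr (Or.inr (Or.inl (q 5 Nat.prime_five h1)))
    · exact Or.inr (Or.inr (Or.inr (q 7 (by norm_num) h1)))
  haveI := Fact.mk hp
  have hord : ∀ j < 2, ∀ m : ℕ, [5, 7].getD j 0 = m → m.Prime → ¬ m ^ 2 ∣ 1451520 →
      (Nat.card σ.ker).factorization m = 0 := by
    intro j hj m hm hmp hm2
    haveI := Fact.mk hmp
    obtain ⟨h1, h2, h3⟩ := ord_ok
    have h := List.all_eq_true.1 h2 j (List.mem_range.2 hj)
    simp only [Bool.and_eq_true, Bool.not_eq_true', beq_eq_false_iff_ne, beq_iff_eq, hm] at h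
    have hmem := Tails.exists_pick psi hw (Tails.exists_slp psi hw (base_mem slp3_ok.2) slp3_ok.1) h1 j
    have hdd : ordK.getD j (oneK 6 64) = ordK.getD j 0 := by
      rw [List.getD_eq_getElem _ _ (h3 ▸ hj), List.getD_eq_getElem _ _ (h3 ▸ hj)]
    rw [hdd] at hmem
    obtain ⟨q, hq⟩ := Tails.exists_orderOf psi hw psi_injective hmem h.1.1 h.1.2 h.2
    exact Tails.factorization_card_ker_of_orderOf σ hσ q (k := 1) (by rw [hq, pow_one]) (by rwa [card_G])
  rcases hp' with rfl | rfl | rfl | rfl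
  · obtain ⟨hs, hDp, hm, hb, hQ⟩ := cert2_shape
    have hs2 := Tails.exists_slp psi hw (base_mem slp2_ok.2) slp2_ok.1
    have := Tails.factorization_of_perm psi hw psi_injective cert2
      (Tails.exists_pick _ hw hs2 pick2_ok.1) (Tails.exists_pick _ hw hs2 pick2_ok.2)
      cert2_eqs cert2_comb hs rels2_ok.1 rels2_ok.2 (p := 2) hDp hm all2_ok.1 all2_ok.2 inner2_ok.1 inner2_ok.2
      card_G hQ Γ σ hσ
    rwa [hb] at this
  · obtain ⟨hs, hDp, hm, hb, hQ⟩ := cert3_shape
    have hs3 := Tails.exists_slp psi hw (base_mem slp3_ok.2) slp3_ok.1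
    have := Tails.factorization_of_perm psi hw psi_injective cert3
      (Tails.exists_pick _ hw hs3 pick3_ok.1) (Tails.exists_pick _ hw hs3 pick3_ok.2)
      cert3_eqs cert3_comb hs rels3_ok.1 rels3_ok.2 (p := 3) hDp hm all3_ok.1 all3_ok.2 inner3_ok.1 inner3_ok.2
      card_G hQ Γ σ hσ
    rw [hb, Nat.factorization_one] at this
    exact this.trans (Nat.zero_le _)
  · rw [hord 0 (by norm_num) 5 rfl (by norm_num) (by norm_num)]; exact Nat.zero_le _
  · rw [hord 1 (by norm_num) 7 rfl (by norm_num) (by norm_num)]; exact Nat.zero_le _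

/-- The forms with 28 zeros. -/
def IsMinus (i : Fin 64) : Prop := Fintype.card {x : V // qn i x = 0} = 28

instance : DecidablePred IsMinus := fun _ => inferInstanceAs (Decidable (_ = _))

theorem minus_spec : minusList.length = 28 ∧
    (∀ i : Fin 28, IsMinus (Fin.ofNat 64 (minusList.getD i 0))) ∧
    (∀ i : Fin 64, IsMinus i → ∃ j : Fin 28, Fin.ofNat 64 (minusList.getD j 0) = i) ∧
    minusList.Nodup ∧ minusList.all (fun x => decide (x < 64)) = true := by decide +kernel

/-- The numbering of those forms. -/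
noncomputable def minusEquiv : Fin 28 ≃ {i : Fin 64 // IsMinus i} :=
  Equiv.ofBijective (fun j => ⟨Fin.ofNat 64 (minusList.getD j 0), minus_spec.2.1 j⟩) ⟨fun a b h => by
    have h' := congrArg (fun q : {i : Fin 64 // IsMinus i} => ((q : Fin 64) : ℕ)) h
    have hlt : ∀ j : Fin 28, minusList.getD j 0 < 64 := fun j => by
      rw [List.getD_eq_getElem _ _ (minus_spec.1.symm ▸ j.2)]
      exact of_decide_eq_true (List.all_eq_true.1 minus_spec.2.2.2.2 _ (List.getElem_mem _))
    simp only [Fin.val_ofNat, Nat.mod_eq_of_lt (hlt _)] at h'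
    rw [List.getD_eq_getElem _ _ (minus_spec.1.symm ▸ a.2), List.getD_eq_getElem _ _ (minus_spec.1.symm ▸ b.2)] at h'
    exact Fin.ext ((List.Nodup.getElem_inj_iff minus_spec.2.2.2.1).1 h'),
    fun q => by
      obtain ⟨j, hj⟩ := minus_spec.2.2.1 q.1 q.2
      exact ⟨j, Subtype.ext hj⟩⟩

theorem isMinus_psi (A : G) (i : Fin 64) : IsMinus (psi A i) ↔ IsMinus i := by
  have h : ∀ x, qn (psi A i) x = qn i ((A⁻¹ : G).1 *ᵥ x) := fun x => by
    rw [psi_apply]
    exact congrFun (qn_num (actW A ⟨qn i, qn_mem i⟩)) x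
  let e : {x : V // qn (psi A i) x = 0} ≃ {x : V // qn i x = 0} :=
    { toFun := fun x => ⟨(A⁻¹ : G).1 *ᵥ x.1, by rw [← h]; exact x.2⟩
      invFun := fun x => ⟨A.1 *ᵥ x.1, by
        rw [h, mulVec_mulVec, show (A⁻¹ : G).1 * A.1 = ((A⁻¹ * A : G)).1 from rfl, inv_mul_cancel,
          show ((1 : G)).1 = 1 from rfl, one_mulVec]
        exact x.2⟩
      left_inv := fun x => Subtype.ext (by
        show A.1 *ᵥ ((A⁻¹ : G).1 *ᵥ x.1) = x.1
        rw [mulVec_mulVec, show A.1 * (A⁻¹ : G).1 = ((A * A⁻¹ : G)).1 from rfl, mul_inv_cancel,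
          show ((1 : G)).1 = 1 from rfl, one_mulVec])
      right_inv := fun x => Subtype.ext (by
        show (A⁻¹ : G).1 *ᵥ (A.1 *ᵥ x.1) = x.1
        rw [mulVec_mulVec, show (A⁻¹ : G).1 * A.1 = ((A⁻¹ * A : G)).1 from rfl, inv_mul_cancel,
          show ((1 : G)).1 = 1 from rfl, one_mulVec]) }
  rw [IsMinus, IsMinus, Fintype.card_congr e]

/-- The action on the forms of minus type. -/
noncomputable def psiM : G →* Equiv.Perm (Fin 28) :=
  minusEquiv.symm.permCongrHom.toMonoidHom.comp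
    (MonoidHom.mk' (fun A => (psi A).subtypePerm fun i => isMinus_psi A i) fun A B =>
      Equiv.ext fun i => Subtype.ext (by rw [Equiv.Perm.mul_apply]; simp [map_mul]))

theorem spin_ok : (spinSwaps.flatMap fun s => [s.1, s.2]).Nodup ∧ spinSwaps.length % 4 = 2 ∧
    (∀ i : Fin 28, lk 6 (baseK.getD 0 0) (minusList.getD i 0) =
      minusList.getD (SpinLift.swapProd spinSwaps i : Fin 28) 0) ∧
    SpinLift.swapProd spinSwaps ≠ 1 := by
  decide +kernel

theorem psiM_trv : psiM (trv (baseV.getD 0 0)) = SpinLift.swapProd spinSwaps := by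
  refine Equiv.ext fun i => minusEquiv.injective (Subtype.ext ?_)
  show (minusEquiv (minusEquiv.symm ((psi (trv (baseV.getD 0 0))).subtypePerm
    (fun x => isMinus_psi (trv (baseV.getD 0 0)) x) (minusEquiv i)))).1 = _
  rw [Equiv.apply_symm_apply]
  show psi (trv (baseV.getD 0 0)) (Fin.ofNat 64 (minusList.getD i 0)) =
    Fin.ofNat 64 (minusList.getD (SpinLift.swapProd spinSwaps i : Fin 28) 0)
  have hlt : ∀ j : Fin 28, minusList.getD j 0 < 64 := fun j => by
    rw [List.getD_eq_getElem _ _ (minus_spec.1.symm ▸ j.2)]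
    exact of_decide_eq_true (List.all_eq_true.1 minus_spec.2.2.2.2 _ (List.getElem_mem _))
  refine Fin.ext ?_
  rw [← rep_trv 0 (by norm_num), Fin.val_ofNat, Fin.val_ofNat, Nat.mod_eq_of_lt (hlt _), Nat.mod_eq_of_lt (hlt _)]
  exact spin_ok.2.2.1 i

theorem psiM_injective : Function.Injective psiM := by
  haveI := isSimple_G
  rw [← MonoidHom.ker_eq_bot_iff]
  refine psiM.normal_ker.eq_bot_or_eq_top.resolve_right fun htop => ?_
  exact spin_ok.2.2.2 (psiM_trv ▸ MonoidHom.mem_ker.1 (htop ▸ Subgroup.mem_top _))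

theorem isPerfect_range : Group.IsPerfect psiM.range := by
  haveI := isSimple_G
  haveI : IsSimpleGroup psiM.range := (MonoidHom.ofInjective psiM_injective).symm.isSimpleGroup
  refine ⟨((commutator psiM.range).normal_of_characteristic.eq_bot_or_eq_top).resolve_left fun h => ?_⟩
  have hcomm : ∀ a b : psiM.range, a * b = b * a := fun a b => commutatorElement_eq_one_iff_mul_comm.1
    (Subgroup.mem_bot.1 (h ▸ Subgroup.commutator_mem_commutator (Subgroup.mem_top a) (Subgroup.mem_top b)))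
  letI : CommGroup psiM.range := { (inferInstance : Group psiM.range) with mul_comm := hcomm }
  have := IsSimpleGroup.prime_card (α := psiM.range)
  rw [← Nat.card_congr (MonoidHom.ofInjective psiM_injective).toEquiv, card_G] at this
  norm_num at this

theorem range_even : psiM.range ≤ Equiv.Perm.sign.ker := by
  haveI := isSimple_G
  let f : G →* ℤˣ := Equiv.Perm.sign.comp psiM
  rcases f.normal_ker.eq_bot_or_eq_top with h | h
  · have hle := Nat.card_le_card_of_injective f ((MonoidHom.ker_eq_bot_iff f).1 h)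
    rw [card_G, Nat.card_eq_fintype_card, Fintype.card_units_int] at hle
    omega
  · rintro _ ⟨g, rfl⟩
    exact MonoidHom.mem_ker.2 (MonoidHom.mem_ker.1 (h ▸ Subgroup.mem_top g : g ∈ f.ker))

theorem hasMultiplier : Cfsg.HasCyclicSchurMultiplier G 2 := by
  obtain ⟨hnd, h4, -, -⟩ := spin_ok
  have hmem : SpinLift.swapProd spinSwaps ∈ psiM.range :=
    ⟨trv (baseV.getD 0 0), psiM_trv⟩
  obtain ⟨Γ, _, _, σ, hσ, hk⟩ := SpinLift.exists_double_cover isPerfect_range range_even spinSwaps hnd h4 hmem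
  let e : psiM.range ≃* G := (MonoidHom.ofInjective psiM_injective).symm
  have hσ' : Cfsg.IsStemExtension (e.toMonoidHom.comp σ) := by
    have hker : (e.toMonoidHom.comp σ).ker = σ.ker := MonoidHom.ker_mulEquiv_comp σ e
    exact ⟨e.surjective.comp hσ.1, hker ▸ hσ.2.1, hker ▸ hσ.2.2⟩
  have hker : (e.toMonoidHom.comp σ).ker = σ.ker := MonoidHom.ker_mulEquiv_comp σ e
  have hk' : Nat.card (e.toMonoidHom.comp σ).ker = 2 := by rw [hker, hk]
  haveI : Fact (Nat.Prime 2) := ⟨Nat.prime_two⟩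
  haveI : Finite G := Nat.finite_of_card_ne_zero (by rw [card_G]; norm_num)
  exact Basic.hasSchurMultiplier_of_le _ hσ' (mulEquivOfPrimeCardEq (p := 2) hk' (by simp [Nat.card_eq_fintype_card]))
    fun Δ _ _ τ hτ => (card_ker_le Δ τ hτ).trans (le_of_eq (by simp [Nat.card_eq_fintype_card]))

/-- The projective group over any field with two elements. -/
theorem hasMultiplier_psp {F : Type*} [Field F] [Fintype F] (hF : Fintype.card F = 2) :
    Cfsg.HasCyclicSchurMultiplier (Cfsg.PSp 3 F) 2 := by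
  obtain ⟨e⟩ := CfsgLib.Classical.PSpThree.psp_congr' (ZMod.ringEquivOfPrime F Nat.prime_two hF) 3
  haveI : Finite G := Nat.finite_of_card_ne_zero (by rw [card_G]; norm_num)
  exact Basic.hasSchurMultiplier_of_mulEquiv
    ((((QuotientGroup.quotientMulEquivOfEq center_eq).trans QuotientGroup.quotientBot).symm).trans e) hasMultiplier

end CfsgLib.Schur.Sporadic.SpSix
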