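import Cfsg.Agent.Lib.Classical.SympMatrixSimple
import Mathlib.Algebra.Field.ZMod
import Mathlib.FieldTheory.Finite.Basic

/-!
The symplectic group of dimension six over the field with two elements, permuting the 64 quadratic forms
with the given polar form.
-/

set_option autoImplicit false
set_option maxRecDepth 100000

namespace CfsgLib.Schur.Sporadic.SpSix

open Matrix CfsgLib.Classical

/-- The vectors. -/
abbrev V : Type := Fin 3 ⊕ Fin 3 → ZMod 2

/-- The group. -/
abbrev G : Type := symplecticGroup (Fin 3) (ZMod 2)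

/-- The number of a coordinate. -/
def cidx : Fin 3 ⊕ Fin 3 → ℕ
  | .inl i => i
  | .inr i => i + 3

/-- The form with a given number. -/
def qn (i : Fin 64) (x : V) : ZMod 2 :=
  (∑ k, if (i : ℕ).testBit (cidx k) then x k else 0) + ∑ k : Fin 3, x (.inl k) * x (.inr k)

/-- The number of a form. -/
def num (q : V → ZMod 2) : Fin 64 :=
  Fin.ofNat 64 (∑ k, if q (Pi.single k 1) = 1 then 2 ^ cidx k else 0)

theorem num_qn : ∀ i : Fin 64, num (qn i) = i := by decide +kernel

theorem form_comm (u v : V) : u ⬝ᵥ (Matrix.J (Fin 3) (ZMod 2) *ᵥ v) = Cfsg.sympForm 3 (ZMod 2) u v := rfl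

/-- Quadratic forms with the given polar form. -/
abbrev W : Type := {q : V → ZMod 2 // ∀ x y, q (x + y) = q x + q y + Cfsg.sympForm 3 (ZMod 2) x y}

theorem qn_mem (i : Fin 64) (x y : V) :
    qn i (x + y) = qn i x + qn i y + Cfsg.sympForm 3 (ZMod 2) x y := by
  rw [sympForm_eq]
  simp only [qn, Pi.add_apply, Fin.sum_univ_three]
  have h : ∀ (p : (Fin 3 ⊕ Fin 3) → Prop) [DecidablePred p],
      (∑ k, if p k then x k + y k else 0) = (∑ k, if p k then x k else 0) + ∑ k, if p k then y k else 0 := by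
    intro p _
    rw [← Finset.sum_add_distrib]
    exact Finset.sum_congr rfl fun k _ => by split <;> simp
  rw [h fun k => (i : ℕ).testBit (cidx k) = true]
  simp only [CharTwo.sub_eq_add]
  ring_nf

theorem qn_num (q : W) : qn (num q.1) = q.1 := by
  have hb : ∀ (f : Fin 3 ⊕ Fin 3 → ZMod 2) (k : Fin 3 ⊕ Fin 3),
      qn (Fin.ofNat 64 (∑ l, if f l = 1 then 2 ^ cidx l else 0)) (Pi.single k 1) = f k := by
    decide +kernel
  have he : ∀ k, qn (num q.1) (Pi.single k 1) = q.1 (Pi.single k 1) := fun k =>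
    hb (fun l => q.1 (Pi.single l 1)) k
  let d : V →+ ZMod 2 :=
    AddMonoidHom.mk' (fun x => qn (num q.1) x - q.1 x) fun x y => by rw [qn_mem, q.2]; abel
  have hd : d = 0 := by
    refine AddMonoidHom.functions_ext' (ZMod 2) d 0 fun k => AddMonoidHom.ext fun c => ?_
    show qn (num q.1) (Pi.single k c) - q.1 (Pi.single k c) = 0
    obtain rfl | rfl : c = 0 ∨ c = 1 := by revert c; decide
    · have h := d.map_zero
      rw [Pi.single_zero]
      exact h
    · rw [he k, sub_self]
  funext x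
  exact sub_eq_zero.1 (DFunLike.congr_fun hd x)

/-- The numbering. -/
def formEquiv : Fin 64 ≃ W where
  toFun i := ⟨qn i, qn_mem i⟩
  invFun q := num q.1
  left_inv := num_qn
  right_inv q := Subtype.ext (qn_num q)

/-- The action on the forms. -/
def actW : G →* Equiv.Perm W :=
  MonoidHom.mk' (fun A =>
    { toFun := fun q => ⟨fun x => q.1 ((A⁻¹ : G).1 *ᵥ x), fun x y => by
        show q.1 ((A⁻¹ : G).1 *ᵥ (x + y)) = _
        rw [mulVec_add, q.2, (mem_symplecticGroup_iff_preserves 3).1 (A⁻¹ : G).2]⟩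
      invFun := fun q => ⟨fun x => q.1 (A.1 *ᵥ x), fun x y => by
        show q.1 (A.1 *ᵥ (x + y)) = _
        rw [mulVec_add, q.2, (mem_symplecticGroup_iff_preserves 3).1 A.2]⟩
      left_inv := fun q => Subtype.ext (funext fun x => by
        show q.1 ((A⁻¹ : G).1 *ᵥ (A.1 *ᵥ x)) = q.1 x
        rw [mulVec_mulVec, show (A⁻¹ : G).1 * A.1 = ((A⁻¹ * A : G)).1 from rfl, inv_mul_cancel,
          show ((1 : G)).1 = 1 from rfl, one_mulVec])
      right_inv := fun q => Subtype.ext (funext fun x => by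
        show q.1 (A.1 *ᵥ ((A⁻¹ : G).1 *ᵥ x)) = q.1 x
        rw [mulVec_mulVec, show A.1 * (A⁻¹ : G).1 = ((A * A⁻¹ : G)).1 from rfl, mul_inv_cancel,
          show ((1 : G)).1 = 1 from rfl, one_mulVec]) })
    fun A B => Equiv.ext fun q => Subtype.ext (funext fun x => by
      show q.1 ((A * B)⁻¹.1 *ᵥ x) = q.1 ((B⁻¹ : G).1 *ᵥ ((A⁻¹ : G).1 *ᵥ x))
      rw [mulVec_mulVec, _root_.mul_inv_rev]
      rfl)

/-- The action on the numbers. -/
def psi : G →* Equiv.Perm (Fin 64) := formEquiv.symm.permCongrHom.toMonoidHom.comp actW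

theorem psi_apply (A : G) (i : Fin 64) : psi A i = num fun x => qn i ((A⁻¹ : G).1 *ᵥ x) := rfl

/-- A transvection. -/
def trv (v : V) : G := ⟨Cfsg.sympTransvection 3 v 1, sympTransvection_mem 3 v 1⟩

theorem trv_inv (v : V) : (trv v)⁻¹ = trv v := by
  refine inv_eq_of_mul_eq_one_right (Subtype.ext (Matrix.ext_of_mulVec_single fun k => ?_))
  show (Cfsg.sympTransvection 3 v 1 * Cfsg.sympTransvection 3 v 1) *ᵥ Pi.single k 1 = (1 : Matrix _ _ _) *ᵥ Pi.single k 1
  rw [one_mulVec, ← mulVec_mulVec, sympTransvection_mulVec, sympTransvection_mulVec, tv_apply, tv_apply]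
  simp only [map_add, map_smul, LinearMap.add_apply, LinearMap.smul_apply, smul_eq_mul, one_mul, sympBil_apply,
    sympForm_self, mul_zero, add_zero]
  funext l
  simp only [Pi.add_apply, Pi.smul_apply, smul_eq_mul, LinearMap.add_apply, LinearMap.smul_apply]
  grind

theorem card_G : Nat.card G = 1451520 := by
  rw [card_symplecticGroup, ZMod.card]
  decide

theorem center_eq : Subgroup.center G = ⊥ := by
  rw [eq_bot_iff]
  intro A hA
  have h1 : (-1 : Matrix (Fin 3 ⊕ Fin 3) (Fin 3 ⊕ Fin 3) (ZMod 2)) = 1 := by decide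
  rcases sp_center_eq 3 hA with h | h
  · exact Subtype.ext h
  · exact Subtype.ext (h.trans h1)

theorem isSimple_G : IsSimpleGroup G := by
  haveI := psp_isSimpleGroup (F := ZMod 2) 3 (by norm_num) (by norm_num)
  exact (MulEquiv.isSimpleGroup ((QuotientGroup.quotientMulEquivOfEq center_eq).trans QuotientGroup.quotientBot).symm)

end CfsgLib.Schur.Sporadic.SpSix
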